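import Mathlib
import Cfsg.Prelude.Def_LocalEven
import Cfsg.Agent.Lib.Qd.Basic
import Cfsg.Agent.Lib.PSolvable.Core

/-! Qd(p) is not `p`-stable. -/

set_option autoImplicit false

namespace Cfsg.Agent.Lib.Qd

open Matrix
open scoped commutatorElement

theorem not_isNormalizerPStable_of_mulEquiv {p : ℕ} [Fact p.Prime] {Y : Type*} [Group Y]
    (e : Y ≃* Cfsg.qdOver (ZMod p)) : ¬ Cfsg.IsNormalizerPStable p Y := by
  intro hst
  set V : Subgroup Y := (transl (ZMod p)).comap e.toMonoidHom with hV
  set g : Y := e.symm (emb (SL2.upper 1)) with hg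
  haveI : (transl (ZMod p)).Normal := transl_normal
  haveI : V.Normal := Subgroup.Normal.comap inferInstance _
  have hVp : IsPGroup p V :=
    (isPGroup_transl (F := ZMod p) p).comap_of_injective e.toMonoidHom e.injective
  have hgN : g ∈ Subgroup.normalizer (V : Set Y) := by
    rw [Subgroup.normalizer_eq_top]; exact Subgroup.mem_top g
  have hq : ⁅⁅V, Subgroup.zpowers g⁆, Subgroup.zpowers g⁆ = ⊥ := by
    rw [Subgroup.commutator_eq_bot_iff_le_centralizer, Subgroup.commutator_le]
    intro v hv w hw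
    obtain ⟨n, rfl⟩ := Subgroup.mem_zpowers_iff.1 hw
    rw [Subgroup.mem_centralizer_iff]
    intro u hu
    obtain ⟨m, rfl⟩ := Subgroup.mem_zpowers_iff.1 hu
    apply e.injective
    have hev : e v = mk 1 (vec (e v)) := eq_mk_of_mem_transl hv
    have hz : ∀ k : ℤ, e (g ^ k) = emb (SL2.upper (k : ZMod p)) := by
      intro k
      rw [map_zpow, hg, MulEquiv.apply_symm_apply, ← map_zpow]
      congr 1
      have h := map_zpow (SL2.upperHom (F := ZMod p)) (Multiplicative.ofAdd 1) k
      rw [← ofAdd_zsmul, zsmul_one] at h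
      exact h.symm
    have hc : e ⁅v, g ^ n⁆ = mk 1 ![-((n : ZMod p) * vec (e v) 1), 0] := by
      rw [map_commutatorElement, hz, commutatorElement_def, hev,
        show mk 1 (vec (e v)) * emb (SL2.upper (n : ZMod p)) * (mk 1 (vec (e v)))⁻¹ *
            (emb (SL2.upper (n : ZMod p)))⁻¹ =
          mk 1 (vec (e v)) * (emb (SL2.upper (n : ZMod p)) * mk 1 (vec (e v)) *
            (emb (SL2.upper (n : ZMod p)))⁻¹)⁻¹ by group,
        conj_transl, emb_apply, block_mk, vec_mk]
      rw [mul_inv_eq_iff_eq_mul, mk_mul]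
      congr 1
      · rw [one_mul]
      · ext i
        fin_cases i <;> simp [SL2.upper, Matrix.mulVec, dotProduct, Fin.sum_univ_two] <;> ring
    rw [map_mul, map_mul, hc, hz, emb_apply, mk_mul, mk_mul, mul_one, one_mul]
    congr 1
    ext i
    fin_cases i <;> simp [SL2.upper, Matrix.mulVec, dotProduct, Fin.sum_univ_two]
  have h := hst V hVp g hgN hq
  set N := Subgroup.normalizer (V : Set Y) with hN
  set f : N →* SpecialLinearGroup (Fin 2) (ZMod p) :=
    (blockHom.comp e.toMonoidHom).comp N.subtype with hf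
  have hker : (Subgroup.centralizer (V : Set Y)).subgroupOf N ≤ f.ker := by
    intro c hc
    rw [MonoidHom.mem_ker]
    have hv : ∀ v : Fin 2 → ZMod p, (block (e (c : Y))).1 *ᵥ v = v := by
      intro v
      have h1 := Subgroup.mem_centralizer_iff.1 hc (e.symm (mk 1 v))
        (by rw [hV, SetLike.mem_coe, Subgroup.mem_comap]; simp [mk_mem_transl])
      have h2 := congrArg e h1
      simp only [map_mul, MulEquiv.apply_symm_apply] at h2
      have h3 := congrArg vec (mul_inv_eq_iff_eq_mul.2 h2.symm)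
      rw [conj_transl, vec_mk, vec_mk] at h3
      exact h3
    apply SL2.ext_entries
    · simpa [f, Matrix.mulVec, dotProduct, Fin.sum_univ_two] using congrFun (hv ![1, 0]) 0
    · simpa [f, Matrix.mulVec, dotProduct, Fin.sum_univ_two] using congrFun (hv ![0, 1]) 0
    · simpa [f, Matrix.mulVec, dotProduct, Fin.sum_univ_two] using congrFun (hv ![1, 0]) 1
    · simpa [f, Matrix.mulVec, dotProduct, Fin.sum_univ_two] using congrFun (hv ![0, 1]) 1
  have hfs : Function.Surjective (QuotientGroup.lift _ f hker) := by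
    intro A
    refine ⟨QuotientGroup.mk ⟨e.symm (emb A), by
      rw [hN, Subgroup.normalizer_eq_top]; exact Subgroup.mem_top _⟩, ?_⟩
    simp [f]
  have h1 := PSolvable.map_pCore_le (p := p) hfs (Subgroup.mem_map_of_mem _ h)
  have hbot : Cfsg.pCore p (SpecialLinearGroup (Fin 2) (ZMod p)) = ⊥ :=
    le_bot_iff.1 (sSup_le fun M hM => (sl2_normal_pSubgroup_eq_bot p M hM.1 hM.2).le)
  rw [hbot, Subgroup.mem_bot] at h1
  have h2 : SL2.upper (1 : ZMod p) = 1 := by simpa [f, g] using h1
  have h3 := congrArg (fun A : SpecialLinearGroup (Fin 2) (ZMod p) => A 0 1) h2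
  simp at h3

end Cfsg.Agent.Lib.Qd
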