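import Cfsg.Agent.Lib.Qd.Sylow

/-! In Qd no nontrivial characteristic subgroup of a Sylow subgroup controls strong fusion. -/

set_option autoImplicit false

namespace Cfsg.Agent.Lib.Qd

open Matrix

variable {F : Type*} [Field F] [Fintype F] (p : ℕ) [Fact p.Prime] [CharP F p]

theorem not_controlsStrongFusion_char (S : Sylow p (Cfsg.qdOver F))
    (T : Subgroup (S : Subgroup (Cfsg.qdOver F))) (hT : T ≠ ⊥) (hTc : T.Characteristic) :
    ¬ Cfsg.ControlsStrongFusion p (T.map (S : Subgroup (Cfsg.qdOver F)).subtype) := by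
  rintro ⟨T', -, hctrl⟩
  obtain ⟨g, hg⟩ := exists_conj_uni p S
  -- translations lie in every Sylow subgroup
  have htr : ∀ v : Fin 2 → F, g⁻¹ * mk 1 v * g ∈ (T' : Subgroup (Cfsg.qdOver F)) := by
    intro v
    haveI := transl_normal (F := F)
    refine ((isPGroup_transl p).le_sylow_of_normal T') ?_
    simpa using transl_normal.conj_mem _ (mk_mem_transl v) g⁻¹
  set a : Cfsg.qdOver F := g⁻¹ * mk 1 ![1, 0] * g with ha
  have hA : ({a} : Set (Cfsg.qdOver F)) ⊆ (T' : Subgroup (Cfsg.qdOver F)) := by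
    rw [Set.singleton_subset_iff, ha]
    exact htr ![1, 0]
  have himg : g⁻¹ * emb SL2.weyl * g * a * (g⁻¹ * emb SL2.weyl * g)⁻¹ =
      g⁻¹ * mk 1 (SL2.weyl.1 *ᵥ ![1, 0]) * g := by
    have := conj_transl (emb (F := F) SL2.weyl) ![1, 0]
    rw [emb_apply, block_mk] at this
    rw [ha, ← this, emb_apply]
    group
  obtain ⟨x, hx, hxa⟩ := (hctrl _ hA).2 (g⁻¹ * emb SL2.weyl * g) (by
    rintro _ ⟨b, rfl, rfl⟩
    show g⁻¹ * emb SL2.weyl * g * _ * (g⁻¹ * emb SL2.weyl * g)⁻¹ ∈ (T' : Subgroup (Cfsg.qdOver F))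
    rw [himg]
    exact htr _)
  have h := hxa a rfl
  rw [himg] at h
  -- move to the upper unitriangular Sylow subgroup
  rw [(normalizer_char_eq p S T hT hTc).1] at hx
  set y : Cfsg.qdOver F := g * x * g⁻¹ with hy
  have hyN : y ∈ Subgroup.normalizer (uni F : Set (Cfsg.qdOver F)) := by
    rw [← hg]
    exact (Subgroup.map_equiv_normalizer_eq (S : Subgroup (Cfsg.qdOver F)) (MulAut.conj g)).le
      ⟨x, hx, by simp [hy]⟩
  have hyB : block y 1 0 = 0 := by
    rcases le_borel_or_eq_top (borel_le_normalizer_uni (F := F)) with h' | h'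
    · rw [h'] at hyN
      exact hyN
    · have hle := normal_pSubgroup_le_transl p _ (Subgroup.normalizer_eq_top_iff.1 h') (hg ▸ S.2.map _)
      have := congrArg (fun A : SpecialLinearGroup (Fin 2) F => A 0 1)
        (mem_transl.1 (hle (uel_mem 1 0 0)))
      simp [uel] at this
  have h2 : y * mk 1 ![1, 0] * y⁻¹ = mk 1 (SL2.weyl.1 *ᵥ ![1, 0]) := by
    have h' := congrArg (fun z => g * z * g⁻¹) h
    simp only [ha, hy, mul_assoc, inv_mul_cancel_left, mul_inv_cancel_left, _root_.mul_inv_rev, inv_inv,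
      mul_inv_cancel, mul_one] at h' ⊢
    exact h'.symm
  rw [conj_transl] at h2
  have h3 := congrArg (fun z => vec z 1) h2
  simp [Matrix.mulVec, dotProduct, Fin.sum_univ_two, hyB, SL2.weyl] at h3

/-- The same statement in a group isomorphic to Qd. -/
theorem not_controlsStrongFusion_of_mulEquiv {Q : Type*} [Group Q] [Finite Q] (e : Q ≃* Cfsg.qdOver F)
    (S : Sylow p Q) (T : Subgroup (S : Subgroup Q)) (hT : T ≠ ⊥) (hTc : T.Characteristic) :
    ¬ Cfsg.ControlsStrongFusion p (T.map (S : Subgroup Q).subtype) := by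
  rintro ⟨T', hUT', hctrl⟩
  let S' : Sylow p (Cfsg.qdOver F) := S.mapSurjective (f := e.toMonoidHom) e.surjective
  let σ : (S : Subgroup Q) ≃* (S' : Subgroup (Cfsg.qdOver F)) :=
    (S : Subgroup Q).equivMapOfInjective e.toMonoidHom e.injective
  have hTc' : (T.map σ.toMonoidHom).Characteristic := Subgroup.characteristic_iff_map_le.2 fun φ => by
    rintro _ ⟨_, ⟨x, hx, rfl⟩, rfl⟩
    refine ⟨(σ.trans (φ.trans σ.symm)) x,
      Subgroup.characteristic_iff_map_le.1 hTc (σ.trans (φ.trans σ.symm)) ⟨x, hx, rfl⟩, ?_⟩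
    simp
  apply not_controlsStrongFusion_char p S' (T.map σ.toMonoidHom)
    (by rwa [Ne, Subgroup.map_eq_bot_iff_of_injective _ σ.injective]) hTc'
  have hU : (T.map σ.toMonoidHom).map (S' : Subgroup (Cfsg.qdOver F)).subtype =
      (T.map (S : Subgroup Q).subtype).map e.toMonoidHom := by
    rw [Subgroup.map_map, Subgroup.map_map]; rfl
  rw [hU]
  refine ⟨T'.mapSurjective (f := e.toMonoidHom) e.surjective, Subgroup.map_mono hUT',
    fun A hA => ⟨hA, fun g hgA => ?_⟩⟩
  have hmem : ∀ z, z ∈ ((T'.mapSurjective (f := e.toMonoidHom) e.surjective : Sylow p _) :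
      Subgroup (Cfsg.qdOver F)) → e.symm z ∈ (T' : Subgroup Q) := by
    rintro _ ⟨w, hw, rfl⟩
    show e.symm (e w) ∈ (T' : Subgroup Q)
    rwa [e.symm_apply_apply]
  obtain ⟨x, hx, hxa⟩ := (hctrl (e.symm '' A) (by
    rintro _ ⟨a, ha, rfl⟩; exact hmem a (hA ha))).2 (e.symm g) (by
    rintro _ ⟨_, ⟨a, ha, rfl⟩, rfl⟩
    have := hmem _ (hgA ⟨a, ha, rfl⟩)
    simp only [map_mul, map_inv] at this
    exact this)
  refine ⟨e x, (Subgroup.map_equiv_normalizer_eq _ e).le ⟨x, hx, rfl⟩, fun a ha => ?_⟩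
  simpa using congrArg e (hxa (e.symm a) ⟨a, ha, rfl⟩)

/-- A Sylow subgroup of a group isomorphic to Qd is nontrivial. -/
theorem sylow_nontrivial {Q : Type*} [Group Q] [Finite Q] (e : Q ≃* Cfsg.qdOver F) (S : Sylow p Q) :
    Nontrivial (S : Subgroup Q) := by
  haveI := transl_normal (F := F)
  have h := (isPGroup_transl (F := F) p).le_sylow_of_normal
    (S.mapSurjective (f := e.toMonoidHom) e.surjective)
  obtain ⟨w, hw, hwe⟩ := h (mk_mem_transl ![1, 0])
  refine ⟨⟨⟨w, hw⟩, 1, fun h1 => ?_⟩⟩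
  have hw1 : w = 1 := congrArg Subtype.val h1
  rw [hw1, map_one] at hwe
  have := congrArg (fun z => vec z 0) hwe
  simp at this

/-- Involvement is transitive, also across universe levels. -/
theorem involves_trans' {G Y : Type*} [Group G] [Group Y] {Z : Type*} [Group Z]
    (h1 : Cfsg.Involves Z Y) (h2 : Cfsg.Involves Y G) : Cfsg.Involves Z G := by
  obtain ⟨K, R, hR, ⟨e⟩⟩ := h2
  obtain ⟨L, M, hM, ⟨f⟩⟩ := h1
  let φ : K →* Y := e.toMonoidHom.comp (QuotientGroup.mk' _)
  have hφ : Function.Surjective φ := e.surjective.comp (QuotientGroup.mk'_surjective _)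
  let L₀ : Subgroup K := L.comap φ
  let ψ : L₀ →* Z := (f.toMonoidHom.comp (QuotientGroup.mk' _)).comp (φ.subgroupComap L)
  have hψ : Function.Surjective ψ := by
    refine (f.surjective.comp (QuotientGroup.mk'_surjective _)).comp ?_
    intro y
    obtain ⟨k, hk⟩ := hφ y
    exact ⟨⟨k, by rw [Subgroup.mem_comap, hk]; exact y.2⟩, Subtype.ext hk⟩
  let ι : L₀.map K.subtype →* L₀ :=
    (L₀.equivMapOfInjective K.subtype K.subtype_injective).symm.toMonoidHom
  let χ : L₀.map K.subtype →* Z := ψ.comp ι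
  have hχ : Function.Surjective χ :=
    hψ.comp (L₀.equivMapOfInjective K.subtype K.subtype_injective).symm.surjective
  have h : (χ.ker.map (L₀.map K.subtype).subtype).subgroupOf (L₀.map K.subtype) = χ.ker :=
    Subgroup.comap_map_eq_self_of_injective (Subgroup.subtype_injective _) _
  have hn : ((χ.ker.map (L₀.map K.subtype).subtype).subgroupOf (L₀.map K.subtype)).Normal := by
    rw [h]; exact χ.normal_ker
  exact ⟨L₀.map K.subtype, χ.ker.map (L₀.map K.subtype).subtype, hn,
    ⟨(QuotientGroup.quotientMulEquivOfEq h).trans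
      (QuotientGroup.quotientKerEquivOfSurjective χ hχ)⟩⟩

end Cfsg.Agent.Lib.Qd
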