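import Mathlib
import Cfsg.Agent.Lib.Qd.Basic
import Cfsg.Agent.Lib.Amalgam.CharP

/-! The Sylow subgroup of Qd and its characteristic subgroups. -/

set_option autoImplicit false

namespace Cfsg.Agent.Lib.Qd

open Matrix
open scoped Pointwise

variable {F : Type*} [Field F]

/-- The preimage of the upper unitriangular group. -/
noncomputable def uni (F : Type*) [Field F] : Subgroup (Cfsg.qdOver F) :=
  (LinGroup.upperSub (F := F)).comap blockHom

theorem mem_uni {M : Cfsg.qdOver F} : M ∈ uni F ↔ ∃ t, block M = SL2.upper t :=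
  LinGroup.mem_upperSub_iff

theorem transl_le_uni : transl F ≤ uni F := fun M hM =>
  mem_uni.2 ⟨0, by rw [mem_transl.1 hM, SL2.upper_zero]⟩

/-- The element with coordinates `a, b, c`. -/
def uel (a b c : F) : Cfsg.qdOver F := mk (SL2.upper a) ![b, c]

theorem uel_mem (a b c : F) : uel a b c ∈ uni F := mem_uni.2 ⟨a, block_mk _ _⟩

theorem eq_uel {M : Cfsg.qdOver F} (h : M ∈ uni F) :
    M = uel (block M 0 1) (vec M 0) (vec M 1) := by
  obtain ⟨t, ht⟩ := mem_uni.1 h
  apply ext'
  · simp [uel, ht]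
  · ext i; fin_cases i <;> simp [uel]

theorem uel_mul (a b c a' b' c' : F) :
    uel a b c * uel a' b' c' = uel (a + a') (b + b' + a * c') (c + c') := by
  rw [uel, uel, uel, mk_mul, SL2.upper_mul]
  congr 1
  ext i
  fin_cases i <;> simp [Matrix.mulVec, dotProduct, Fin.sum_univ_two, SL2.upper] <;> ring

theorem uel_inj {a b c a' b' c' : F} (h : uel a b c = uel a' b' c') : a = a' ∧ b = b' ∧ c = c' := by
  have h1 := congrArg (fun M => block M 0 1) h
  have h2 := congrArg (fun M => vec M 0) h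
  have h3 := congrArg (fun M => vec M 1) h
  simp [uel] at h1 h2 h3
  exact ⟨h1, h2, h3⟩

/-- The exchange of the two root subgroups on coordinates. -/
def swapFun (M : Cfsg.qdOver F) : Cfsg.qdOver F :=
  uel (vec M 1) (block M 0 1 * vec M 1 - vec M 0) (block M 0 1)

theorem swapFun_uel (a b c : F) : swapFun (uel a b c) = uel c (a * c - b) a := by
  simp [swapFun, uel]

/-- An automorphism of the Sylow subgroup not fixing the translations. -/
noncomputable def swap (F : Type*) [Field F] : uni F ≃* uni F where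
  toFun M := ⟨swapFun M.1, uel_mem _ _ _⟩
  invFun M := ⟨swapFun M.1, uel_mem _ _ _⟩
  left_inv M := Subtype.ext (by
    show swapFun (swapFun M.1) = M.1
    rw [eq_uel M.2, swapFun_uel, swapFun_uel]
    congr 1; ring)
  right_inv M := Subtype.ext (by
    show swapFun (swapFun M.1) = M.1
    rw [eq_uel M.2, swapFun_uel, swapFun_uel]
    congr 1; ring)
  map_mul' M N := Subtype.ext (by
    show swapFun (M.1 * N.1) = swapFun M.1 * swapFun N.1
    rw [eq_uel M.2, eq_uel N.2, uel_mul, swapFun_uel, swapFun_uel, swapFun_uel, uel_mul]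
    congr 1
    ring)

theorem map_subtype_ne_transl (T : Subgroup (uni F)) (hT : T.Characteristic) :
    T.map (uni F).subtype ≠ transl F := by
  intro h
  have h1 : uel (0 : F) 0 1 ∈ T.map (uni F).subtype := by
    rw [h, mem_transl]; simp [uel, SL2.upper_zero]
  obtain ⟨u, hu, hu'⟩ := h1
  have h2 : swap F u ∈ T :=
    Subgroup.characteristic_iff_map_le.1 hT (swap F) ⟨u, hu, rfl⟩
  have h3 : swapFun u.1 ∈ transl F := h ▸ ⟨_, h2, rfl⟩
  rw [show u.1 = uel 0 0 1 from hu', swapFun_uel, mem_transl] at h3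
  have := congrArg (fun A : SpecialLinearGroup (Fin 2) F => A 0 1) h3
  simp [uel] at this

/-- The preimage of the Borel subgroup. -/
def borel (F : Type*) [Field F] : Subgroup (Cfsg.qdOver F) where
  carrier := {M | block M 1 0 = 0}
  one_mem' := by simp
  mul_mem' {a b} (ha : block a 1 0 = 0) (hb : block b 1 0 = 0) := by
    show block (a * b) 1 0 = 0
    rw [block_mul, SL2.mul_10, ha, hb]; ring
  inv_mem' {a} (ha : block a 1 0 = 0) := by
    show block a⁻¹ 1 0 = 0
    rw [show block a⁻¹ = (block a)⁻¹ from map_inv blockHom a, SL2.inv_10, ha, neg_zero]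

theorem borel_le_normalizer_uni : borel F ≤ Subgroup.normalizer (uni F : Set (Cfsg.qdOver F)) := by
  intro g hg
  refine Subgroup.mem_normalizer_iff.2 fun M => ⟨fun h => ?_, fun h => ?_⟩
  · obtain ⟨t, ht⟩ := mem_uni.1 h
    exact mem_uni.2 ⟨_, by
      rw [← blockHom_apply, map_mul, map_mul, map_inv, blockHom_apply, blockHom_apply, ht,
        LinGroup.borel_normalizes_upperSub hg]⟩
  · obtain ⟨t, ht⟩ := mem_uni.1 h
    have hg' : (block g)⁻¹ 1 0 = 0 := by rw [SL2.inv_10, show block g 1 0 = 0 from hg, neg_zero]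
    refine mem_uni.2 ⟨(block g)⁻¹ 0 0 ^ 2 * t, ?_⟩
    rw [← LinGroup.borel_normalizes_upperSub hg', ← ht, ← blockHom_apply (g * M * g⁻¹), map_mul,
      map_mul, map_inv, blockHom_apply, blockHom_apply]
    group

theorem le_borel_or_eq_top {H : Subgroup (Cfsg.qdOver F)} (h : borel F ≤ H) :
    H = borel F ∨ H = ⊤ := by
  by_contra hc
  push_neg at hc
  obtain ⟨g, hg, hgb⟩ := SetLike.exists_of_lt (lt_of_le_of_ne h (Ne.symm hc.1))
  apply hc.2
  have htop : H.map blockHom = ⊤ := by
    refine LinGroup.upper_closure_conj_eq_top (block g) hgb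
      (fun t => ⟨mk (SL2.upper t) 0, h (show block _ 1 0 = 0 by simp), block_mk _ _⟩) fun t => ?_
    refine ⟨g * mk (SL2.upper t) 0 * g⁻¹,
      mul_mem (mul_mem hg (h (show block _ 1 0 = 0 by simp))) (inv_mem hg), ?_⟩
    simp [map_mul, map_inv, ← blockHom_apply]
    simp
  rw [eq_top_iff]
  intro M _
  obtain ⟨N, hN, hNM⟩ := (htop ▸ Subgroup.mem_top (block M) : block M ∈ H.map blockHom)
  have h1 : M * N⁻¹ ∈ H := h (show block _ 1 0 = 0 by
    rw [← blockHom_apply, map_mul, map_inv, blockHom_apply M, ← hNM, mul_inv_cancel]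
    simp)
  simpa using mul_mem h1 hN

theorem card_uni [Fintype F] : Nat.card (uni F) = Fintype.card F ^ 3 := by
  have e : uni F ≃ F × F × F :=
    { toFun := fun M => (block M.1 0 1, vec M.1 0, vec M.1 1)
      invFun := fun x => ⟨uel x.1 x.2.1 x.2.2, uel_mem _ _ _⟩
      left_inv := fun M => Subtype.ext (eq_uel M.2).symm
      right_inv := fun x => by simp [uel] }
  rw [Nat.card_congr e, Nat.card_prod, Nat.card_prod, Nat.card_eq_fintype_card]
  ring

variable [Fintype F] (p : ℕ) [Fact p.Prime] [CharP F p]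

theorem exists_conj_uni (S : Sylow p (Cfsg.qdOver F)) :
    ∃ g : Cfsg.qdOver F, (S : Subgroup (Cfsg.qdOver F)).map (MulAut.conj g).toMonoidHom = uni F := by
  obtain ⟨n, -, hn⟩ := FiniteField.card F p
  let U : Sylow p (Cfsg.qdOver F) := Sylow.ofCard (uni F) (by
    have hq : 1 < Fintype.card F ^ 2 := Nat.one_lt_pow two_ne_zero Fintype.one_lt_card
    have hnd : ¬ p ∣ Fintype.card F ^ 2 - 1 := by
      intro hd
      have hpq : p ∣ Fintype.card F ^ 2 := by
        rw [hn]; exact dvd_pow (dvd_pow_self p n.pos.ne') two_ne_zero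
      have := Nat.dvd_sub hpq hd
      rw [show Fintype.card F ^ 2 - (Fintype.card F ^ 2 - 1) = 1 by omega] at this
      exact (Fact.out : p.Prime).one_lt.ne' (Nat.dvd_one.1 this)
    rw [card_uni, card_qdOver,
      show Fintype.card F * (Fintype.card F ^ 2 - 1) * Fintype.card F ^ 2 =
        p ^ ((n : ℕ) * 3) * (Fintype.card F ^ 2 - 1) by rw [pow_mul, ← hn]; ring,
      Nat.factorization_mul (pow_ne_zero _ (Fact.out : p.Prime).ne_zero) (by omega),
      Finsupp.add_apply, Nat.factorization_eq_zero_of_not_dvd hnd, add_zero,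
      (Fact.out : p.Prime).factorization_pow, Finsupp.single_eq_same, hn, ← pow_mul])
  obtain ⟨g, hg⟩ := MulAction.exists_smul_eq (Cfsg.qdOver F) S U
  refine ⟨g, ?_⟩
  have : ((g • S : Sylow p (Cfsg.qdOver F)) : Subgroup (Cfsg.qdOver F)) = uni F := by rw [hg]; rfl
  rw [← this]
  rfl

/-- The normaliser of a nontrivial characteristic subgroup of a Sylow subgroup is the normaliser of
the Sylow subgroup. -/
theorem normalizer_char_eq (S : Sylow p (Cfsg.qdOver F))
    (T : Subgroup (S : Subgroup (Cfsg.qdOver F))) (hT : T ≠ ⊥) (hTc : T.Characteristic) :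
    Subgroup.normalizer ((T.map (S : Subgroup (Cfsg.qdOver F)).subtype :
        Subgroup (Cfsg.qdOver F)) : Set (Cfsg.qdOver F)) =
      Subgroup.normalizer ((S : Subgroup (Cfsg.qdOver F)) : Set (Cfsg.qdOver F)) ∧
    Subgroup.normalizer ((S : Subgroup (Cfsg.qdOver F)) : Set (Cfsg.qdOver F)) ≠ ⊤ := by
  obtain ⟨g, hg⟩ := exists_conj_uni p S
  let e : (S : Subgroup (Cfsg.qdOver F)) ≃* uni F :=
    ((S : Subgroup (Cfsg.qdOver F)).equivMapOfInjective (MulAut.conj g).toMonoidHom (MulAut.conj g).injective).trans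
      (MulEquiv.subgroupCongr hg)
  let T' : Subgroup (uni F) := T.map e.toMonoidHom
  have hT'c : T'.Characteristic := Subgroup.characteristic_iff_map_le.2 fun φ => by
    rintro _ ⟨_, ⟨x, hx, rfl⟩, rfl⟩
    refine ⟨(e.trans (φ.trans e.symm)) x,
      Subgroup.characteristic_iff_map_le.1 hTc (e.trans (φ.trans e.symm)) ⟨x, hx, rfl⟩, ?_⟩
    simp
  set T1 : Subgroup (Cfsg.qdOver F) := T'.map (uni F).subtype with hT1def
  have hT1 : T1 = (T.map (S : Subgroup (Cfsg.qdOver F)).subtype).map
      (MulAut.conj g).toMonoidHom := by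
    rw [hT1def, Subgroup.map_map, Subgroup.map_map]
    rfl
  have hT1ne : T1 ≠ ⊥ := by
    rw [hT1, Ne, Subgroup.map_eq_bot_iff_of_injective _ (MulAut.conj g).injective,
      Subgroup.map_eq_bot_iff_of_injective _ (Subgroup.subtype_injective _)]
    exact hT
  have hUp : IsPGroup p (uni F) := hg ▸ S.2.map _
  have hT1p : IsPGroup p T1 := hUp.to_le (Subgroup.map_subtype_le _)
  have hN1 : Subgroup.normalizer (uni F : Set (Cfsg.qdOver F)) ≤
      Subgroup.normalizer (T1 : Set (Cfsg.qdOver F)) := by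
    have fwd : ∀ n ∈ Subgroup.normalizer (uni F : Set (Cfsg.qdOver F)), ∀ x ∈ T1,
        n * x * n⁻¹ ∈ T1 := by
      rintro n hn _ ⟨x, hx, rfl⟩
      let φ : uni F ≃* uni F :=
        ((uni F).equivMapOfInjective (MulAut.conj n).toMonoidHom (MulAut.conj n).injective).trans
          (MulEquiv.subgroupCongr (Amalgam.map_conj_eq_of_mem_normalizer hn))
      exact ⟨φ x, Subgroup.characteristic_iff_map_le.1 hT'c φ ⟨x, hx, rfl⟩, rfl⟩
    intro n hn
    refine Subgroup.mem_normalizer_iff.2 fun x => ⟨fun h => fwd n hn x h, fun h => ?_⟩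
    have := fwd n⁻¹ (inv_mem hn) _ h
    simpa [mul_assoc] using this
  have hBU : borel F ≤ Subgroup.normalizer (uni F : Set (Cfsg.qdOver F)) := borel_le_normalizer_uni
  have hUtop : Subgroup.normalizer (uni F : Set (Cfsg.qdOver F)) ≠ ⊤ := fun h => by
    have hle := normal_pSubgroup_le_transl p _ (Subgroup.normalizer_eq_top_iff.1 h) hUp
    have := congrArg (fun A : SpecialLinearGroup (Fin 2) F => A 0 1)
      (mem_transl.1 (hle (uel_mem 1 0 0)))
    simp [uel] at this
  have hTtop : Subgroup.normalizer (T1 : Set (Cfsg.qdOver F)) ≠ ⊤ := fun h => by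
    have hn := Subgroup.normalizer_eq_top_iff.1 h
    have hle := normal_pSubgroup_le_transl p _ hn hT1p
    refine map_subtype_ne_transl T' hT'c (le_antisymm hle ?_)
    obtain ⟨M, hM, hM1⟩ := T1.bot_or_exists_ne_one.resolve_left hT1ne
    have hv : vec M ≠ 0 := fun h0 => hM1 (by
      rw [eq_mk_of_mem_transl (hle hM), h0, mk_one_zero])
    intro N hN
    rw [eq_mk_of_mem_transl hN]
    by_cases hw : vec N = 0
    · rw [hw, mk_one_zero]; exact one_mem _
    obtain ⟨A, hA⟩ := exists_mulVec_eq hv hw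
    have := hn.conj_mem M hM (emb A)
    rw [eq_mk_of_mem_transl (hle hM), conj_transl] at this
    rw [emb_apply, block_mk, hA] at this
    exact this
  have eU := (le_borel_or_eq_top hBU).resolve_right hUtop
  have eT := (le_borel_or_eq_top (hBU.trans hN1)).resolve_right hTtop
  have key : ∀ H : Subgroup (Cfsg.qdOver F),
      (Subgroup.normalizer (H : Set (Cfsg.qdOver F))).map (MulAut.conj g).toMonoidHom =
        Subgroup.normalizer ((H.map (MulAut.conj g).toMonoidHom :
          Subgroup (Cfsg.qdOver F)) : Set (Cfsg.qdOver F)) :=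
    fun H => Subgroup.map_equiv_normalizer_eq H (MulAut.conj g)
  refine ⟨Subgroup.map_injective (f := (MulAut.conj g).toMonoidHom) (MulAut.conj g).injective ?_, ?_⟩
  · rw [key, key, ← hT1, hg, eT, eU]
  · intro h
    apply hUtop
    rw [← hg, ← key, h, Subgroup.map_top_of_surjective _ (MulAut.conj g).surjective]
where
  exists_mulVec_eq {v w : Fin 2 → F} (hv : v ≠ 0) (hw : w ≠ 0) :
      ∃ A : SpecialLinearGroup (Fin 2) F, A.1 *ᵥ v = w := by
    have key : ∀ w : Fin 2 → F, w ≠ 0 →
        ∃ A : SpecialLinearGroup (Fin 2) F, A.1 *ᵥ ![1, 0] = w := by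
      intro w hw
      by_cases h0 : w 0 = 0
      · have h1 : w 1 ≠ 0 := fun h1 => hw (by ext i; fin_cases i <;> simp [h0, h1])
        refine ⟨SL2.ofEntries (w 0) (-(w 1)⁻¹) (w 1) 0 (by field_simp; ring), ?_⟩
        ext i; fin_cases i <;> simp [Matrix.mulVec, dotProduct, Fin.sum_univ_two]
      · refine ⟨SL2.ofEntries (w 0) 0 (w 1) (w 0)⁻¹ (by field_simp; ring), ?_⟩
        ext i; fin_cases i <;> simp [Matrix.mulVec, dotProduct, Fin.sum_univ_two]
    obtain ⟨A, hA⟩ := key v hv
    obtain ⟨B, hB⟩ := key w hw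
    refine ⟨B * A⁻¹, ?_⟩
    rw [← hA, Matrix.mulVec_mulVec]
    show ((B * A⁻¹).1 * A.1) *ᵥ _ = _
    rw [show (B * A⁻¹).1 * A.1 = (B * A⁻¹ * A).1 from rfl, inv_mul_cancel_right, hB]

end Cfsg.Agent.Lib.Qd
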